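import Cfsg.Agent.Comp.J2.Pres

set_option autoImplicit false
set_option maxRecDepth 100000

namespace Cfsg.Agent.Comp.J2
open Cfsg.Agent.Comp

noncomputable def n0 : Net :=
(Net.cons (nat_lit 0x37f6b3f41a320) (nat_lit 50)
(Net.cons (nat_lit 0x172f6400000018913d0) (nat_lit 25)
(Net.cons (nat_lit 0x21400018c4000050000da0) (nat_lit 13)
(Net.cons (nat_lit 0x20030130044088052014030) (nat_lit 6)
(Net.cons (nat_lit 0x1000220020700208180000006) (nat_lit 3)
(Net.cons (nat_lit 0x2000208000020020000000041) (nat_lit 2)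
(Net.cons (nat_lit 0x240020800a824824092002041) (nat_lit 1)
(Net.cons (nat_lit 0x2013249241904004c00010449) (nat_lit 2)
(Net.cons (nat_lit 0x100022002071c214186080046) (nat_lit 3)
(Net.cons (nat_lit 0x200001b005c08805a03c030) (nat_lit 6)
(Net.cons (nat_lit 0x21c0001ce4000050000da0) (nat_lit 13)
(Net.cons (nat_lit 0x166f0580000018913d0) (nat_lit 25)
(Net.cons (nat_lit 0x37f6b3f41a320) (nat_lit 50)
Net.nil)))))))))))))

noncomputable def n1 : Net :=
(Net.cons (nat_lit 0x3450000000080) (nat_lit 50)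
(Net.cons (nat_lit 0x79601e0000001e7a000) (nat_lit 25)
(Net.cons (nat_lit 0x2f08003cf8000224000240) (nat_lit 13)
(Net.cons (nat_lit 0x300030000038030014000000) (nat_lit 6)
(Net.cons (nat_lit 0x60020000008210104008042) (nat_lit 3)
(Net.cons (nat_lit 0x2000040048000104000010401) (nat_lit 2)
(Net.cons (nat_lit 0x2410241248004124002010241) (nat_lit 1)
(Net.cons (nat_lit 0x2083049200020904c80012409) (nat_lit 2)
(Net.cons (nat_lit 0x2082022070821038c288042) (nat_lit 3)
(Net.cons (nat_lit 0x3a00601f8038030014000000) (nat_lit 6)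
(Net.cons (nat_lit 0x7978003cf8000224000240) (nat_lit 13)
(Net.cons (nat_lit 0x79601e0000001e7a000) (nat_lit 25)
(Net.cons (nat_lit 0x3450000000080) (nat_lit 50)
Net.nil)))))))))))))

noncomputable def n2 : Net :=
(Net.cons (nat_lit 0x2620060001040) (nat_lit 50)
(Net.cons (nat_lit 0x4da108000000109b140) (nat_lit 25)
(Net.cons (nat_lit 0x4038003228000dcc000206) (nat_lit 13)
(Net.cons (nat_lit 0x600881700080c800006001d) (nat_lit 6)
(Net.cons (nat_lit 0x1000200800300000000000104) (nat_lit 3)
(Net.cons (nat_lit 0x2002000200004004800080001) (nat_lit 2)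
(Net.cons (nat_lit 0x2401049242804904400480809) (nat_lit 1)
(Net.cons (nat_lit 0x402001001904004800090008) (nat_lit 2)
(Net.cons (nat_lit 0xc50218620304704104000183) (nat_lit 3)
(Net.cons (nat_lit 0x601a81700480c802e06201d) (nat_lit 6)
(Net.cons (nat_lit 0x4038003228000dcc000206) (nat_lit 13)
(Net.cons (nat_lit 0x4de108400000109b140) (nat_lit 25)
(Net.cons (nat_lit 0x2620060001040) (nat_lit 50)
Net.nil)))))))))))))

noncomputable def n3 : Net :=
(Net.cons (nat_lit 0x2dd0010000000) (nat_lit 50)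
(Net.cons (nat_lit 0x22fca0000000080428) (nat_lit 25)
(Net.cons (nat_lit 0x14800029ac000690000289) (nat_lit 13)
(Net.cons (nat_lit 0xe012805004c0c805c01001a) (nat_lit 6)
(Net.cons (nat_lit 0x40800800500000008000102) (nat_lit 3)
(Net.cons (nat_lit 0x1000020800000082000) (nat_lit 2)
(Net.cons (nat_lit 0x15049242920805402082a08) (nat_lit 1)
(Net.cons (nat_lit 0x83201009904900c90082600) (nat_lit 2)
(Net.cons (nat_lit 0x1c40820800300010008080102) (nat_lit 3)
(Net.cons (nat_lit 0xe01281500ac0c805c05c03b) (nat_lit 6)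
(Net.cons (nat_lit 0x14800029ac000690000aa9) (nat_lit 13)
(Net.cons (nat_lit 0x22fca0000000080428) (nat_lit 25)
(Net.cons (nat_lit 0x2dd0010000000) (nat_lit 50)
Net.nil)))))))))))))

noncomputable def n4 : Net :=
(Net.cons (nat_lit 0x7347c371b080) (nat_lit 50)
(Net.cons (nat_lit 0x53c0808000001629000) (nat_lit 25)
(Net.cons (nat_lit 0x10e00007400004c0000450) (nat_lit 13)
(Net.cons (nat_lit 0x3001a00a00140e0048034010) (nat_lit 6)
(Net.cons (nat_lit 0x840020010200000100000000) (nat_lit 3)
(Net.cons (nat_lit 0x200240020000010010001) (nat_lit 2)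
(Net.cons (nat_lit 0x2000208240020000010090001) (nat_lit 1)
(Net.cons (nat_lit 0x412009249024900812410401) (nat_lit 2)
(Net.cons (nat_lit 0x182080000060801c100002000) (nat_lit 3)
(Net.cons (nat_lit 0x1500d80280500e004803c030) (nat_lit 6)
(Net.cons (nat_lit 0x52e00012ac0004c00004d0) (nat_lit 13)
(Net.cons (nat_lit 0x53c0808000001629000) (nat_lit 25)
(Net.cons (nat_lit 0x7347c371b080) (nat_lit 50)
Net.nil)))))))))))))

noncomputable def n5 : Net :=
(Net.cons (nat_lit 0x3c2ac94a48070) (nat_lit 50)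
(Net.cons (nat_lit 0x42d1140000000957230) (nat_lit 25)
(Net.cons (nat_lit 0x2738002a400011040006b4) (nat_lit 13)
(Net.cons (nat_lit 0x2c006008001000803c05000a) (nat_lit 6)
(Net.cons (nat_lit 0x1820020010600400004000044) (nat_lit 3)
(Net.cons (nat_lit 0x402000241000000002002400) (nat_lit 2)
(Net.cons (nat_lit 0x48100124a000004012012201) (nat_lit 1)
(Net.cons (nat_lit 0x2402208241100820890482408) (nat_lit 2)
(Net.cons (nat_lit 0x182043083061821000a100044) (nat_lit 3)
(Net.cons (nat_lit 0x2d00f01b00100b803c05000a) (nat_lit 6)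
(Net.cons (nat_lit 0x6738002a400011040006b4) (nat_lit 13)
(Net.cons (nat_lit 0x42d1140000001977238) (nat_lit 25)
(Net.cons (nat_lit 0x3c2ac94a48070) (nat_lit 50)
Net.nil)))))))))))))

noncomputable def T : List Net := [n0, n1, n2, n3, n4, n5]

theorem ok : TOK 100 T := TOK_of_ok (by decide +kernel)

def E : List (List Nat × List Nat) :=
  []

theorem sat : Sat (sig T) R :=
  sat_of_relsP ok (by norm_num) (show relsP (nat_lit 100) (nat_lit 7) (nat_lit 0) (nat_lit 7) T R = true by decide +kernel)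

theorem eqs : ∀ e ∈ E, ev (sig T) e.1 = ev (sig T) e.2 := eqs_nil _

def lowW1 : List (List Nat) := [[0],
   [1],
   [2],
   [3],
   [4]]

def lowW2 : List (List Nat) := [[0],
   [1],
   [2],
   [3]]

def lowW3 : List (List Nat) := [[0],
   [1],
   [2]]

def lowW4 : List (List Nat) := [[0],
   [1]]

def lowW5 : List (List Nat) := [[0]]

theorem low_5 : 2 ≤ Nat.card (genW (sig T) lowW5) :=
  chain_step (W' := []) (b := 37) (n := 2) (m := 1) ok (le_of_subOK eqs (show subOK lowW5 [] E = true by decide +kernel)) (by decide +kernel)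
    (le_ncard_of_ivl (a := 37) ok (by norm_num) (show Nat.beq (grow T lowW5 [0] (pt (nat_lit 37))) (ivl (nat_lit 37) (nat_lit 2)) = true by decide +kernel))
    (chain_base ok [])

theorem low_4 : 6 ≤ Nat.card (genW (sig T) lowW4) :=
  chain_step (W' := lowW5) (b := 84) (n := 3) (m := 2) ok (le_of_subOK eqs (show subOK lowW4 lowW5 E = true by decide +kernel)) (by decide +kernel)
    (le_ncard_of_orbGe ok (by norm_num) (show orbGe (nat_lit 100) (nat_lit 7) T lowW4 [1, 0] (nat_lit 84) (nat_lit 3) = true by decide +kernel))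
    low_5

theorem low_3 : 24 ≤ Nat.card (genW (sig T) lowW3) :=
  chain_step (W' := lowW4) (b := 14) (n := 4) (m := 6) ok (le_of_subOK eqs (show subOK lowW3 lowW4 E = true by decide +kernel)) (by decide +kernel)
    (le_ncard_of_orbGe ok (by norm_num) (show orbGe (nat_lit 100) (nat_lit 7) T lowW3 [2, 1, 0] (nat_lit 14) (nat_lit 4) = true by decide +kernel))
    low_4

theorem low_2 : 168 ≤ Nat.card (genW (sig T) lowW2) :=
  chain_step (W' := lowW3) (b := 11) (n := 7) (m := 24) ok (le_of_subOK eqs (show subOK lowW2 lowW3 E = true by decide +kernel)) (by decide +kernel)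
    (le_ncard_of_orbGe ok (by norm_num) (show orbGe (nat_lit 100) (nat_lit 7) T lowW2 [3, 1, 0, 2, 1] (nat_lit 11) (nat_lit 7) = true by decide +kernel))
    low_3

theorem low_1 : 6048 ≤ Nat.card (genW (sig T) lowW1) :=
  chain_step (W' := lowW2) (b := 1) (n := 36) (m := 168) ok (le_of_subOK eqs (show subOK lowW1 lowW2 E = true by decide +kernel)) (by decide +kernel)
    (le_ncard_of_ivl (a := 1) ok (by norm_num) (show Nat.beq (grow T lowW1 [4, 0, 1, 0, 2, 4, 3, 1, 3, 4, 0] (pt (nat_lit 1))) (ivl (nat_lit 1) (nat_lit 36)) = true by decide +kernel))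
    low_2

theorem low : 604800 ≤ Nat.card (genW (sig T) (letters 6)) :=
  chain_step (W' := lowW1) (b := 0) (n := 100) (m := 6048) ok (le_of_subOK eqs (show subOK (letters 6) lowW1 E = true by decide +kernel)) (by decide +kernel)
    (le_ncard_of_ivl (a := 0) ok (by norm_num) (show Nat.beq (grow T (letters 6) [5, 0, 2, 3, 4, 1, 5, 0, 3, 4, 0, 1] (pt (nat_lit 0))) (ivl (nat_lit 0) (nat_lit 100)) = true by decide +kernel))
    low_1


end Cfsg.Agent.Comp.J2
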