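import Cfsg.Agent.Comp.J2.Up
import Cfsg.Agent.Comp.J2.Nets

set_option autoImplicit false
set_option maxRecDepth 100000

namespace Cfsg.Agent.Comp.J2
open Cfsg.Agent.Comp

def W0 : List (List Nat) := [[0],
[1],
[2],
[3],
[4]]

noncomputable def phi : G →* Equiv.Perm ℕ := (pres.rep ok sat).choose

theorem rep : Rep s 6 100 T phi := (pres.rep ok sat).choose_spec

theorem trans : ∀ i < 100, ∃ g, phi g 0 = i :=
  rep.trans (sch := [5, 0, 2, 3, 4, 1, 5, 0, 3, 4, 0, 1]) (by decide +kernel)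

theorem stab : (genW s W0).index = 100 ∧ ∀ g, g ∈ genW s W0 ↔ phi g 0 = 0 :=
  rep.stab_eq (by decide +kernel) (by norm_num) trans (by decide +kernel) (Top.index _ s pres.sat)

theorem orb1 : MulAction.orbit (genW (sig T) W0) 1 = Set.Ico 1 (1 + 36) ∧
    (MulAction.orbit (genW (sig T) W0) 1).ncard = 36 :=
  orbit_ivl (sch := [4, 0, 1, 0, 2, 4, 3, 1, 3, 4, 0]) ok (by norm_num) (by norm_num) (by decide +kernel) (by decide +kernel)

theorem orb37 : MulAction.orbit (genW (sig T) W0) 37 = Set.Ico 37 (37 + 63) ∧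
    (MulAction.orbit (genW (sig T) W0) 37).ncard = 63 :=
  orbit_ivl (sch := [0, 1, 2, 3, 4, 0, 1, 3, 2]) ok (by norm_num) (by norm_num) (by decide +kernel) (by decide +kernel)

namespace Col

noncomputable def t0 : Tr := (Tr.node (nat_lit 0) (Tr.leaf (nat_lit 0x8a98d5bffffff0cb7fffffffff889fffc1c9ffffffffffffffff8698743ffffff0098153ffe0588a91048025ffffffffffffffff8091343ffe49bfffffffffe0128a88a5c0220d6072856bffe0558888c5bffe011fffffffffe0568688844241fff008ffffffffff8488b4404a024fff8047ffe0534a80f40021fff1cb7ffc0b83564880b4c132010fff8757ffffff468084fffffff0087fffffe0204480c4003e01efff8043ffffff42814408a5fffffffffc021fff4081043ffffff128ffffffe0100007ffc8203501c80d40aa0450))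
(Tr.leaf (nat_lit 0x7ffffffffffffffffffffff0007ffffffffffffffffffffff0007ffffffffffffffffffffff0007ffffffffffffffffffffff0007ffffffffffffffffffffff0007ffffffffffffffffffffff0007ffffffffffffffffffffff0007ffffffffffffffffffffff0007ffffffffffffffffffffff0007ffffffffffffffffffffffcab8c47ffe11ffffffffffe09ec8bfffffffffffffffffffe09f86b057fffffff00b7fffffffff84a8657ffe09d04f0057ffffff88a077bffe01402a817bffffff80a095fffffff04bffffffffff)))

noncomputable def T : Tr := t0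

def RT : List (List (List Nat)) := [
  [[nat_lit 5, nat_lit 0, nat_lit 4],
   [nat_lit 3, nat_lit 2, nat_lit 0, nat_lit 3],
   [nat_lit 2, nat_lit 0, nat_lit 2],
   [nat_lit 4, nat_lit 0, nat_lit 5],
   [nat_lit 0]],
  [[nat_lit 5, nat_lit 1, nat_lit 5],
   [nat_lit 1]],
  [[nat_lit 3, nat_lit 2, nat_lit 3],
   [nat_lit 4, nat_lit 3, nat_lit 2, nat_lit 4],
   [nat_lit 5, nat_lit 2, nat_lit 3, nat_lit 5, nat_lit 3, nat_lit 2, nat_lit 5, nat_lit 3],
   [nat_lit 2]],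
  [[nat_lit 0, nat_lit 3, nat_lit 2, nat_lit 0],
   [nat_lit 4, nat_lit 3, nat_lit 4],
   [nat_lit 2, nat_lit 3, nat_lit 2],
   [nat_lit 2, nat_lit 4, nat_lit 2, nat_lit 4],
   [nat_lit 3]],
  [[nat_lit 2, nat_lit 4, nat_lit 3, nat_lit 2],
   [nat_lit 4],
   [nat_lit 0, nat_lit 5, nat_lit 0]],
  [[nat_lit 3, nat_lit 5, nat_lit 3, nat_lit 5, nat_lit 3],
   [nat_lit 0, nat_lit 5, nat_lit 0, nat_lit 5, nat_lit 0],
   [nat_lit 5]],
  [[nat_lit 2, nat_lit 0, nat_lit 2, nat_lit 0],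
   [nat_lit 4, nat_lit 4],
   [nat_lit 0, nat_lit 0],
   [nat_lit 3, nat_lit 3],
   [nat_lit 5, nat_lit 5],
   [nat_lit 2, nat_lit 2],
   [nat_lit 3, nat_lit 4, nat_lit 3, nat_lit 4],
   [nat_lit 3, nat_lit 5, nat_lit 3, nat_lit 5, nat_lit 3, nat_lit 5],
   [nat_lit 1, nat_lit 1],
   [nat_lit 4, nat_lit 0, nat_lit 1, nat_lit 0, nat_lit 4, nat_lit 0, nat_lit 1, nat_lit 0, nat_lit 4, nat_lit 0, nat_lit 1, nat_lit 0]]]

def HT : List (List (Nat × Nat × Nat)) := [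
  [(0, 0, 3), (1, 11, 2), (0, 8, 1), (0, 0, 1), (0, 1, 0)],
  [(0, 18, 1), (0, 2, 0)],
  [(0, 10, 1), (1, 14, 2), (1, 26, 0), (0, 3, 0)],
  [(1, 11, 1), (0, 13, 1), (0, 10, 0), (1, 14, 4), (0, 4, 0)],
  [(1, 14, 1), (0, 5, 0), (0, 0, 2)],
  [(0, 20, 0), (0, 19, 0), (0, 6, 0)],
  [(0, 8, 1), (0, 5, 0), (0, 1, 0), (0, 4, 0), (0, 6, 0), (0, 3, 0), (0, 13, 0), (0, 20, 0), (0, 2, 0), (0, 17, 3)]]

def R : List (List Nat) :=
  [[0, 4, 0, 5],
   [0, 0],
   [1, 1],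
   [2, 2],
   [3, 3],
   [4, 4],
   [5, 5],
   [0, 1, 0, 1, 0, 1],
   [0, 2, 0, 2],
   [1, 2, 1, 2, 1, 2],
   [2, 3, 2, 3],
   [0, 2, 3, 0, 3],
   [1, 3, 1, 3, 1, 3],
   [3, 4, 3, 4],
   [2, 3, 4, 2, 4],
   [0, 4, 0, 4, 0, 4],
   [1, 4, 1, 4, 1, 4],
   [0, 1, 0, 4, 0, 1, 0, 4, 0, 1, 0, 4],
   [1, 5, 1, 5],
   [0, 5, 0, 5, 0, 5],
   [3, 5, 3, 5, 3, 5],
   [1, 2, 1, 5, 2, 1, 5, 2, 5],
   [1, 4, 1, 5, 4, 1, 5, 4, 5],
   [0, 2, 5, 0, 2, 5, 2, 0, 5],
   [3, 4, 5, 3, 4, 5, 4, 3, 5],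
   [0, 2, 5, 2, 5, 0, 5, 2, 5],
   [2, 3, 5, 2, 3, 5, 3, 2, 5],
   [0, 1, 4, 0, 5, 0, 4, 1, 0, 4, 5, 4],
   [1, 3, 5, 4, 5, 3, 1, 4, 5, 4],
   [0, 1, 3, 5, 2, 1, 4, 0, 1, 3, 5, 2, 1, 4]]

def W : List (List Nat) := []

noncomputable def P : Par := ⟨T, (nat_lit 4), (nat_lit 15), (nat_lit 104), (nat_lit 13), (nat_lit 8191), (nat_lit 6), (nat_lit 63), (nat_lit 6), (nat_lit 17), (nat_lit 48), (nat_lit 0x398a418820), RT⟩

noncomputable def J0 : List Nat := [
  nat_lit 0x470024c44b0021c44f0023c54574f0031c45b0022c4184104630024c410516c0042c418410411cc008b116e0032c41061051444570045c510418410539860031c41048b0023c418599681a80147116a0032c4670024c5c9280030c411fc0093106105a00019f14e00032c4184145111ac011710410610609786a001431465d800cb15a00033c410418411ad7c0041c558000c3105a85e18a09780082c6588600103148518c0044c6104105b8000cb10401b928000032710410410614a56800e31624600041c415200030c6104118a0031c410410419205e960051c41041048f0024c41056665801071,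
  nat_lit 0x10415e4e148010310415e54800cb10411380010715600031c61048b000cf10418486000cb1765200040c4106a00103104106104106a0011b105e0033c410410410417800c31041050115a8010f1041041041041041041041041041041041041041041041041041041041041041041041041041041041041041041041041041041041]

theorem c0 : chk T (nat_lit 4) (nat_lit 15) (nat_lit 104) (nat_lit 13) (nat_lit 8191) (nat_lit 6) (nat_lit 63) (nat_lit 6) (nat_lit 17) (nat_lit 48) (nat_lit 0x398a418820) (nat_lit 4) (nat_lit 15) RT (nat_lit 16) J0 (nat_lit 16) = true := by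
  decide +kernel

theorem r0 : P.RowsOK 16 48 := chk_sound P _ _ _ J0 _ _ (by decide +kernel) c0

theorem index.{u} : IndexLe.{u} 6 R W 1 :=
  indexLe_of_cert P HT (by decide +kernel)
    (show P.RowsOK 16 48 from r0)

end Col

theorem card : Finite G ∧ Nat.card G = 604800 ∧ Function.Injective phi :=
  rep.card_eq up low

def primT : List (List Nat × List Nat) :=
  [([5, 0, 3, 5], [0, 2, 5, 1, 2, 3, 4, 2, 1, 0, 5, 1, 2, 3]),
   ([5], [0, 1, 3, 4, 5, 2, 0, 1, 4, 5, 1, 0])]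

theorem prim_0 : Nat.beq (grow T ([5, 0, 3, 5] :: W0) [0, 2, 5, 1, 2, 3, 4, 2, 1, 0, 5, 1, 2, 3] (pt (nat_lit 0))) (ivl (nat_lit 0) (nat_lit 100)) = true := by
  decide +kernel

theorem prim_1 : Nat.beq (grow T ([5] :: W0) [0, 1, 3, 4, 5, 2, 0, 1, 4, 5, 1, 0] (pt (nat_lit 0))) (ivl (nat_lit 0) (nat_lit 100)) = true := by
  decide +kernel

theorem prim : Prim (gen (sig T) 6) 0 :=
  prim_of_cert (W := W0) (ts := primT) (sch := [4, 0, 1, 2, 3, 1, 4, 0, 1, 0, 4, 0]) ok (ok.genW_le _) (by norm_num) (genW_le_gen (by decide +kernel)) (by decide +kernel)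
    (fun t ht => ev_mem fun x hx => letter_mem_gen ((by decide +kernel : ∀ t ∈ primT, ∀ x ∈ t.1, x < 6) t ht x hx)) (by decide +kernel)
    (by simp only [primT, List.forall_mem_cons]; exact ⟨prim_0, prim_1, by simp⟩)

def XP : List (List Nat) := [[0, 4, 0, 5, 0, 4, 0, 5, 0, 4, 0, 5, 0, 4, 0, 5, 0, 4, 0, 5]]

theorem satX : Sat (sig T) XP :=
  sat_of_relsP ok (by norm_num) (show relsP (nat_lit 100) (nat_lit 7) (nat_lit 0) (nat_lit 7) T XP = true by decide +kernel)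

theorem simple : IsSimpleGroup G :=
  rep.simple (m := 6048) (p := 5) (X := [[0, 4, 0, 5]]) card.2.2 (by norm_num) (by norm_num) trans prim card.2.1 (by norm_num) pres.sat
    Col.index (by decide +kernel) (by decide +kernel) (satX.mono (by decide +kernel))


end Cfsg.Agent.Comp.J2
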