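import Cfsg.Agent.Comp.J2.Main
import Cfsg.Agent.Comp.Trans

set_option autoImplicit false
set_option maxRecDepth 100000

namespace Cfsg.Agent.Comp.J2
open Cfsg.Agent.Comp

theorem st0 {bs : List ℕ} {m : ℕ} (h : BaseGe (genW (sig T) lowW1) bs m) :
    BaseGe (genW (sig T) (letters 6)) (0 :: bs) (100 * m) :=
  BaseGe.step (W' := lowW1) (b := 0) (n := 100) ok (le_of_subOK eqs (show subOK (letters 6) lowW1 E = true by decide +kernel)) (by decide +kernel)
    (le_ncard_of_ivl (a := 0) ok (by norm_num) (show Nat.beq (grow T (letters 6) [5, 0, 2, 3, 4, 1, 5, 0, 3, 4, 0, 1] (pt (nat_lit 0))) (ivl (nat_lit 0) (nat_lit 100)) = true by decide +kernel)) h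

theorem st1 {bs : List ℕ} {m : ℕ} (h : BaseGe (genW (sig T) lowW2) bs m) :
    BaseGe (genW (sig T) lowW1) (1 :: bs) (36 * m) :=
  BaseGe.step (W' := lowW2) (b := 1) (n := 36) ok (le_of_subOK eqs (show subOK lowW1 lowW2 E = true by decide +kernel)) (by decide +kernel)
    (le_ncard_of_ivl (a := 1) ok (by norm_num) (show Nat.beq (grow T lowW1 [4, 0, 1, 0, 2, 4, 3, 1, 3, 4, 0] (pt (nat_lit 1))) (ivl (nat_lit 1) (nat_lit 36)) = true by decide +kernel)) h

theorem st2 {bs : List ℕ} {m : ℕ} (h : BaseGe (genW (sig T) lowW3) bs m) :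
    BaseGe (genW (sig T) lowW2) (11 :: bs) (7 * m) :=
  BaseGe.step (W' := lowW3) (b := 11) (n := 7) ok (le_of_subOK eqs (show subOK lowW2 lowW3 E = true by decide +kernel)) (by decide +kernel)
    (le_ncard_of_orbGe ok (by norm_num) (show orbGe (nat_lit 100) (nat_lit 7) T lowW2 [3, 1, 0, 2, 1] (nat_lit 11) (nat_lit 7) = true by decide +kernel)) h

theorem st3 {bs : List ℕ} {m : ℕ} (h : BaseGe (genW (sig T) lowW4) bs m) :
    BaseGe (genW (sig T) lowW3) (14 :: bs) (4 * m) :=
  BaseGe.step (W' := lowW4) (b := 14) (n := 4) ok (le_of_subOK eqs (show subOK lowW3 lowW4 E = true by decide +kernel)) (by decide +kernel)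
    (le_ncard_of_orbGe ok (by norm_num) (show orbGe (nat_lit 100) (nat_lit 7) T lowW3 [2, 1, 0] (nat_lit 14) (nat_lit 4) = true by decide +kernel)) h

theorem st4 {bs : List ℕ} {m : ℕ} (h : BaseGe (genW (sig T) lowW5) bs m) :
    BaseGe (genW (sig T) lowW4) (84 :: bs) (3 * m) :=
  BaseGe.step (W' := lowW5) (b := 84) (n := 3) ok (le_of_subOK eqs (show subOK lowW4 lowW5 E = true by decide +kernel)) (by decide +kernel)
    (le_ncard_of_orbGe ok (by norm_num) (show orbGe (nat_lit 100) (nat_lit 7) T lowW4 [1, 0] (nat_lit 84) (nat_lit 3) = true by decide +kernel)) h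

theorem st5 {bs : List ℕ} {m : ℕ} (h : BaseGe (genW (sig T) []) bs m) :
    BaseGe (genW (sig T) lowW5) (37 :: bs) (2 * m) :=
  BaseGe.step (W' := []) (b := 37) (n := 2) ok (le_of_subOK eqs (show subOK lowW5 [] E = true by decide +kernel)) (by decide +kernel)
    (le_ncard_of_ivl (a := 37) ok (by norm_num) (show Nat.beq (grow T lowW5 [0] (pt (nat_lit 37))) (ivl (nat_lit 37) (nat_lit 2)) = true by decide +kernel)) h

theorem cardR : Nat.card phi.range = 604800 := by rw [rep.range, rep.card_gen card.2.2, card.2.1]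

theorem base : IsBase phi.range [0, 1, 11, 14, 84, 37] :=
  BaseGe.isBase (st0 (st1 (st2 (st3 (st4 (st5 (BaseGe.nil _))))))) rep.range.ge (by rw [cardR]) (by norm_num)


end Cfsg.Agent.Comp.J2
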