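import Cfsg.Agent.Comp.J2.Base
import Cfsg.Agent.Comp.OutKit

set_option autoImplicit false
set_option maxRecDepth 100000

namespace Cfsg.Agent.Comp.J2
open Cfsg.Agent.Comp

noncomputable def on6 : Net :=
(Net.cons (nat_lit 0x306c7fe21b48a) (nat_lit 50)
(Net.cons (nat_lit 0x7812e20000001df7072) (nat_lit 25)
(Net.cons (nat_lit 0x23180031f4001564000ad4) (nat_lit 13)
(Net.cons (nat_lit 0x1800d01300480c005e01800c) (nat_lit 6)
(Net.cons (nat_lit 0x1000610820518010304004146) (nat_lit 3)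
(Net.cons (nat_lit 0x90201009020000010480401) (nat_lit 2)
(Net.cons (nat_lit 0x2494241208924004012482849) (nat_lit 1)
(Net.cons (nat_lit 0x2090049009104920882002041) (nat_lit 2)
(Net.cons (nat_lit 0x870830400114214386000086) (nat_lit 3)
(Net.cons (nat_lit 0x1a00381a00fc0a8042052012) (nat_lit 6)
(Net.cons (nat_lit 0x35d8003340000076000cde) (nat_lit 13)
(Net.cons (nat_lit 0x8aec8c00000123507a) (nat_lit 25)
(Net.cons (nat_lit 0x3cd23f69d2b24) (nat_lit 50)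
Net.nil)))))))))))))

noncomputable def on7 : Net :=
(Net.cons (nat_lit 0x10255f0baf38c) (nat_lit 50)
(Net.cons (nat_lit 0x3b561680000014053ea) (nat_lit 25)
(Net.cons (nat_lit 0x339000199c0004f4000c9c) (nat_lit 13)
(Net.cons (nat_lit 0xa0120000020088000060002) (nat_lit 6)
(Net.cons (nat_lit 0x1060420400000610288000004) (nat_lit 3)
(Net.cons (nat_lit 0x10209040000100010012000) (nat_lit 2)
(Net.cons (nat_lit 0x91249242004124490412a49) (nat_lit 1)
(Net.cons (nat_lit 0x412201048000920882012441) (nat_lit 2)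
(Net.cons (nat_lit 0x1c00e18a2841c01818c30a087) (nat_lit 3)
(Net.cons (nat_lit 0x2a010018808c01405202e03e) (nat_lit 6)
(Net.cons (nat_lit 0x2280001cb0000d2c0003dd) (nat_lit 13)
(Net.cons (nat_lit 0x54998cc000001793e99) (nat_lit 25)
(Net.cons (nat_lit 0x1e1e00647283a) (nat_lit 50)
Net.nil)))))))))))))

noncomputable def on8 : Net :=
(Net.cons (nat_lit 0x140e4de7b2290) (nat_lit 50)
(Net.cons (nat_lit 0xc7be800000003458ac) (nat_lit 25)
(Net.cons (nat_lit 0x252800048c00191c000252) (nat_lit 13)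
(Net.cons (nat_lit 0x1a000004c098068000017) (nat_lit 6)
(Net.cons (nat_lit 0x800600830200010004000184) (nat_lit 3)
(Net.cons (nat_lit 0x2490000040000004800482041) (nat_lit 2)
(Net.cons (nat_lit 0x2495040242020005002492a41) (nat_lit 1)
(Net.cons (nat_lit 0x410248249124924490492048) (nat_lit 2)
(Net.cons (nat_lit 0x610c0870451c3001000c1) (nat_lit 3)
(Net.cons (nat_lit 0x1301380000b40d401e04a024) (nat_lit 6)
(Net.cons (nat_lit 0x290000d80001dac000425) (nat_lit 13)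
(Net.cons (nat_lit 0x32695d80000019e825d) (nat_lit 25)
(Net.cons (nat_lit 0x2bf1b2184dd6f) (nat_lit 50)
Net.nil)))))))))))))

noncomputable def on9 : Net :=
(Net.cons (nat_lit 0x37d8a84cee2e0) (nat_lit 50)
(Net.cons (nat_lit 0x3d29d20000000d963c2) (nat_lit 25)
(Net.cons (nat_lit 0x1448001a18001278000788) (nat_lit 13)
(Net.cons (nat_lit 0x1800d01800a001003000003e) (nat_lit 6)
(Net.cons (nat_lit 0x1040630c20300018088008082) (nat_lit 3)
(Net.cons (nat_lit 0x80241008100004002402009) (nat_lit 2)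
(Net.cons (nat_lit 0x249424120a920925082412a09) (nat_lit 1)
(Net.cons (nat_lit 0x2010049048120020082400641) (nat_lit 2)
(Net.cons (nat_lit 0x860210220204510084288185) (nat_lit 3)
(Net.cons (nat_lit 0xc00581680280a005a016029) (nat_lit 6)
(Net.cons (nat_lit 0x49800011fc001712000859) (nat_lit 13)
(Net.cons (nat_lit 0x3f16e30000000e38e78) (nat_lit 25)
(Net.cons (nat_lit 0x180637a110d1c) (nat_lit 50)
Net.nil)))))))))))))

noncomputable def on10 : Net :=
(Net.cons (nat_lit 0x2a2bf38916300) (nat_lit 50)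
(Net.cons (nat_lit 0x63cd040000000c38462) (nat_lit 25)
(Net.cons (nat_lit 0x4b60003f20000560000c01) (nat_lit 13)
(Net.cons (nat_lit 0x2400701f00880c007c00400e) (nat_lit 6)
(Net.cons (nat_lit 0xe30400010000000000180) (nat_lit 3)
(Net.cons (nat_lit 0x10040200004800000080001) (nat_lit 2)
(Net.cons (nat_lit 0x10249200904820000082049) (nat_lit 1)
(Net.cons (nat_lit 0x93041000004800892080601) (nat_lit 2)
(Net.cons (nat_lit 0x1000e30a2871400000e080180) (nat_lit 3)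
(Net.cons (nat_lit 0x2501701f00880d407c02402e) (nat_lit 6)
(Net.cons (nat_lit 0x5b60003f20000560000c01) (nat_lit 13)
(Net.cons (nat_lit 0x63cd040000000c38462) (nat_lit 25)
(Net.cons (nat_lit 0x2a2bf3c917300) (nat_lit 50)
Net.nil)))))))))))))

noncomputable def on11 : Net :=
(Net.cons (nat_lit 0x19dd009858480) (nat_lit 50)
(Net.cons (nat_lit 0xc96440000001e10c04) (nat_lit 25)
(Net.cons (nat_lit 0x2000010480000a40007c4) (nat_lit 13)
(Net.cons (nat_lit 0x1801000600880b802e020028) (nat_lit 6)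
(Net.cons (nat_lit 0xa00800600610004200080) (nat_lit 3)
(Net.cons (nat_lit 0x82200200100800000080040) (nat_lit 2)
(Net.cons (nat_lit 0x91240240100920002080840) (nat_lit 1)
(Net.cons (nat_lit 0x12201209104104880080048) (nat_lit 2)
(Net.cons (nat_lit 0xc70a00c0040811010428c0c0) (nat_lit 3)
(Net.cons (nat_lit 0x1801001600600b802e020028) (nat_lit 6)
(Net.cons (nat_lit 0x4a000023c80000a40007d4) (nat_lit 13)
(Net.cons (nat_lit 0xc96448000001e10c04) (nat_lit 25)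
(Net.cons (nat_lit 0x1997009858480) (nat_lit 50)
Net.nil)))))))))))))

noncomputable def T2 : List Net := [n0, n1, n2, n3, n4, n5, on6, on7, on8, on9, on10, on11]

theorem ok2 : TOK 100 T2 := TOK_of_ok (by decide +kernel)

def E2 : List (List Nat × List Nat) :=
  [([6], [1, 4, 2]),
   ([7], [4, 0, 5, 3, 1, 0, 5, 6, 4, 0, 6, 0]),
   ([8], [3, 0, 7, 5, 0, 4, 2, 0, 1, 0]),
   ([9], [8, 1, 3, 1]),
   ([10], [5, 2, 5]),
   ([11], [0, 1, 2, 0, 1, 0])]

theorem eqs2 : ∀ e ∈ E2, ev (sig T2) e.1 = ev (sig T2) e.2 :=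
  eq_of_eqsP ok2 (by norm_num) (show eqsP (nat_lit 100) (nat_lit 7) (nat_lit 0) (nat_lit 7) T2 E2 = true by decide +kernel)

noncomputable def s2 : ℕ → G := liftS phi (sig T2)

theorem inj : Function.Injective phi := card.2.2

theorem ext1 : Rep (liftS phi (sig T)) 6 100 T phi ∧ ∀ x < 6, liftS phi (sig T) x = s x :=
  rep.extend inj ok (fun _ _ => rfl) eqs (by decide +kernel) rfl

theorem rep1 : Rep (liftS phi (sig T)) 6 100 T phi := ext1.1

theorem ext2 : Rep s2 12 100 T2 phi ∧ ∀ x < 6, s2 x = s x := by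
  have h1 := ext1
  have h2 := h1.1.extend inj ok2 (by intro x hx; interval_cases x <;> rfl) eqs2 (by decide +kernel) (L' := 12) rfl
  exact ⟨h2.1, fun x hx => (h2.2 x (by omega)).trans (h1.2 x hx)⟩

theorem rep2 : Rep s2 12 100 T2 phi := ext2.1

noncomputable def Is : List Nat := [ivl 0 1, ivl 1 36, ivl 37 63]

theorem orbs : Orbs phi 100 Is :=
  rep.orbs (by decide +kernel) stab.2 ((lall_eq _ _).mp (show lall (invS T W0) Is = true by decide +kernel))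

def cxg : List (List Nat) := [[6]]

def cxW : List (List Nat) := [[6]]

def cxV : List (List Nat) := [[6],
[7]]

def cx2B : List Nat := [3]

def cx3D : Ds := []

def cx3P : Pats :=
  [([1, 2], [(0, [0]), (1, [0]), (0, [0, 0, 0]), (0, [])], 18),
   ([0, 2], [(0, [0]), (1, [])], 1)]

def cx3L0 : List (Nat × List Nat × Nat) :=
  [(34, [8], 0),
   (70, [10], 1)]

def cx3B : List Nat := [34, 70, 4]

def cx4B : List Nat := [35]

def cx5D : Ds := []

def cx5P : Pats :=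
  [([1, 2], [(1, [0, 0]), (0, [0]), (0, [0]), (0, [])], 3),
   ([0, 2], [(0, [0]), (1, [])], 1)]

def cx5L0 : List (Nat × List Nat × Nat) :=
  [(34, [8], 0),
   (14, [7, 11], 1)]

def cx5B : List Nat := [34, 14]

def cyg : List (List Nat) := [[7]]

def cyW : List (List Nat) := [[7],
[9]]

def cyV : List (List Nat) := [[7],
[9],
[8]]

def cy3B : List Nat := [15]

def cy4D : Ds := []

def cy4P : Pats :=
  [([0, 2], [(0, [0]), (1, [])], 1)]

def cy4L0 : List (Nat × List Nat × Nat) :=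
  [(26, [8, 2], 0),
   (7, [5, 6, 10], 0)]

def cy4B : List Nat := [26, 7, 3]

noncomputable def fi2J : Nat := nat_lit 0x1684040800

theorem fi2 : FixInv phi 100 [0, 1] fi2J :=
  rep1.fixInv (st0 (st1 (BaseGe.nil _))) rep.range.ge (m' := 168) (by rw [cardR]) (by norm_num) low_2 (by decide +kernel)

def Rs : List (List Nat) :=
  [[0, 0, 2, 0, 0, 2, 0, 0, 2, 0, 0, 2, 0, 0, 2, 0, 0, 2, 0, 0, 2],
   [0, 2, 1, 0, 2, 1, 0, 2, 1, 0, 2, 1, 0, 2, 1, 0, 2, 1, 0, 2, 1]]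

def GE : List (List Nat × List Nat) :=
  [([6, 6, 8, 6, 8, 6, 8, 6, 7, 0], [8, 7, 6, 6, 8, 7, 6, 6, 8, 7, 6, 6, 8, 7, 6, 6, 8, 7, 6, 6, 8, 7, 6, 6, 6, 6, 8, 6, 8, 6, 8, 6, 7]),
   ([6, 8, 7, 7, 1], [0, 6, 8, 7, 7]),
   ([7, 6, 2], [1, 6, 1, 6, 7, 6]),
   ([7, 0, 3], [2, 7, 0]),
   ([6, 7, 4], [2, 6, 7]),
   ([6, 8, 3, 5], [4, 6, 8, 3])]

def ob0 : List ((Nat × List Nat) × Nat) :=
  [((1, [9]), 0),
   ((1, [7]), 0),
   ((1, [7, 9]), 0),
   ((1, [7, 7]), 0),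
   ((1, [7, 7, 7, 9]), 0),
   ((1, [7, 7, 7, 7]), 0),
   ((1, [7, 7, 7, 7, 9]), 0),
   ((1, [7, 7, 7, 7, 7]), 0),
   ((1, [7, 7, 7, 7, 7, 9]), 0),
   ((1, [7, 7, 9]), 1)]

def tw : List (List Nat) := [[10],
[1],
[2],
[3],
[4],
[11]]

def wx : List Nat :=
  [1, 4, 2]

def wy : List Nat :=
  [4, 0, 5, 3, 1, 0, 5, 1, 4, 2, 4, 0, 1, 4, 2, 0]

def wz : List Nat :=
  [3, 0, 4, 0, 5, 3, 1, 0, 5, 1, 4, 2, 4, 0, 1, 4, 2, 0, 5, 0, 4, 2, 0, 1, 0]

theorem cxE : ∀ e ∈ (cenE cxg cxW [([6], [[0]]), ([7], [[0, 0, 0, 0, 0]])]), ev s2 e.1 = ev s2 e.2 :=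
  rep2.eqB inj base (by decide +kernel)

theorem cx1F : No s2 phi cxg [(1, 4), (0, 35)] 11 [3] :=
  No.sift (u := [4, 0, 6, 3, 6, 7]) (e := (11, 3)) rep2 fi2 (by decide +kernel)

theorem cx2T : stepB (nat_lit 12) (nat_lit 100) (nat_lit 7) T2 Is cxg cxW cxV [(1, 4), (0, 35)] [(1, 4, [7, 8, 6], [7, 8], [1, 2])] [] [(0, [0]), (1, [0, 0]), (0, [0]), (0, [])] 11 [] cx2B [] [] [] [] = true := by
  decide +kernel

theorem cx3S : srcB (nat_lit 12) (nat_lit 100) (nat_lit 7) T2 Is cxg [(0, 35)] cx3D [] 1 [7, 8, 6] cx3P = true := by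
  decide +kernel

theorem cx3L0_ok : leafB (nat_lit 12) (nat_lit 100) (nat_lit 7) T2 Is cxg cx3D [] cx3P cx3L0 = true := by
  decide +kernel

theorem cx3T : stepB (nat_lit 12) (nat_lit 100) (nat_lit 7) T2 Is cxg cxW cxV [(0, 35)] [(0, 35, [], [7], [1])] [[0]] [(0, []), (1, [])] 1 [] cx3B [[0]] [[0, 1, 1]] [] [0, 0, 0, 0, 0, 0, 1, 1] = true := by
  decide +kernel

theorem cx4T : stepB (nat_lit 12) (nat_lit 100) (nat_lit 7) T2 Is cxg cxW cxV [] [] [[0]] [(1, [])] 0 [0] cx4B [[0]] [[0],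
[1, 1]] [] [] = true := by
  decide +kernel

theorem cx5S : srcB (nat_lit 12) (nat_lit 100) (nat_lit 7) T2 Is cxg [(0, 0)] cx5D [] 1 [7, 8, 6] cx5P = true := by
  decide +kernel

theorem cx5L0_ok : leafB (nat_lit 12) (nat_lit 100) (nat_lit 7) T2 Is cxg cx5D [] cx5P cx5L0 = true := by
  decide +kernel

theorem cx5T : stepB (nat_lit 12) (nat_lit 100) (nat_lit 7) T2 Is cxg cxW cxV [(0, 0)] [(0, 0, [], [], [1])] [[0]] [(0, []), (1, [])] 1 [1] cx5B [[0]] [[0, 1, 1]] [0, 0, 0, 0, 0, 0] [0, 0, 0, 0, 1, 0, 1, 0] = true := by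
  decide +kernel

theorem cx6T : stepB (nat_lit 12) (nat_lit 100) (nat_lit 7) T2 Is cxg cxW cxV [(1, 1), (0, 0)] [(1, 1, [7, 8, 6], [7, 8, 6], [1, 2])] [] [(0, [0]), (1, [0, 0]), (0, [0]), (0, [])] 11 [11] [] [] [] [] [] = true := by
  decide +kernel

theorem cx7T : stepB (nat_lit 12) (nat_lit 100) (nat_lit 7) T2 Is cxg cxW cxV [(11, 11), (1, 1), (0, 0)] [(11, 11, [5, 3, 8, 3], [5, 3, 8, 3], [1]), (1, 1, [7, 8, 6], [7, 8, 6], [1, 2]), (0, 0, [], [], [1])] [] [(0, []), (1, []), (3, [0]), (0, []), (2, [])] 14 [14] [] [] [] [] [] = true := by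
  decide +kernel

theorem cx8T : stepB (nat_lit 12) (nat_lit 100) (nat_lit 7) T2 Is cxg cxW cxV [(14, 14), (11, 11), (1, 1), (0, 0)] [(14, 14, [7, 11], [7, 11], [2]), (11, 11, [5, 3, 8, 3], [5, 3, 8, 3], [1]), (1, 1, [7, 8, 6], [7, 8, 6], [1, 2])] [] [(1, []), (2, []), (0, [0]), (3, [0]), (1, [])] 84 [84] [] [] [] [] [] = true := by
  decide +kernel

theorem cx9T : stepB (nat_lit 12) (nat_lit 100) (nat_lit 7) T2 Is cxg cxW cxV [(84, 84), (14, 14), (11, 11), (1, 1), (0, 0)] [(84, 84, [5, 0, 9], [5, 0, 9], [1]), (14, 14, [7, 11], [7, 11], [1]), (11, 11, [5, 3, 8, 3], [5, 3, 8, 3], [1]), (1, 1, [7, 8, 6], [7, 8, 6], [1])] [] [(3, [0]), (0, [0]), (2, [0]), (1, [])] 37 [37] [] [] [] [] [] = true := by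
  decide +kernel

theorem cyE : ∀ e ∈ (cenE cyg cyW [([7], [[0]]), ([9], [[0]]), ([8], [[0, 0, 0, 0, 0]])]), ev s2 e.1 = ev s2 e.2 :=
  rep2.eqB inj base (by decide +kernel)

theorem cy1T : stepB (nat_lit 12) (nat_lit 100) (nat_lit 7) T2 Is cyg cyW cyV [] [] [[0, 0]] [(1, [])] 0 [0] [] [[0],
[1]] [[0, 0],
[2, 1]] [0, 1] [] = true := by
  decide +kernel

theorem cy2F : No s2 phi cyg [(1, 3), (0, 0)] 11 [15] :=
  No.sift (u := [4, 0]) (e := (11, 15)) rep2 fi2 (by decide +kernel)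

theorem cy3T : stepB (nat_lit 12) (nat_lit 100) (nat_lit 7) T2 Is cyg cyW cyV [(1, 3), (0, 0)] [(1, 3, [7, 8, 6], [5, 7, 11], [1, 2]), (0, 0, [], [], [1])] [] [(0, []), (2, [0]), (2, [0]), (0, [0, 0]), (1, [])] 11 [] cy3B [] [] [] [] = true := by
  decide +kernel

theorem cy4S : srcB (nat_lit 12) (nat_lit 100) (nat_lit 7) T2 Is cyg [(0, 0)] cy4D [] 1 [7, 8, 6] cy4P = true := by
  decide +kernel

theorem cy4L0_ok : leafB (nat_lit 12) (nat_lit 100) (nat_lit 7) T2 Is cyg cy4D [] cy4P cy4L0 = true := by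
  decide +kernel

theorem cy4T : stepB (nat_lit 12) (nat_lit 100) (nat_lit 7) T2 Is cyg cyW cyV [(0, 0)] [(0, 0, [], [], [1])] [[0, 0]] [(0, []), (1, [0]), (0, [])] 1 [1] cy4B [[0, 0]] [[2, 1]] [0, 0] [0, 0] = true := by
  decide +kernel

theorem cy5T : stepB (nat_lit 12) (nat_lit 100) (nat_lit 7) T2 Is cyg cyW cyV [(1, 1), (0, 0)] [(1, 1, [7, 8, 6], [7, 8, 6], [1, 2]), (0, 0, [], [], [1])] [] [(0, []), (2, [0]), (2, [0]), (0, [0, 0]), (1, [])] 11 [11] [] [] [] [] [] = true := by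
  decide +kernel

theorem cy6T : stepB (nat_lit 12) (nat_lit 100) (nat_lit 7) T2 Is cyg cyW cyV [(11, 11), (1, 1), (0, 0)] [(11, 11, [5, 3, 8, 3], [5, 3, 8, 3], [1, 2]), (1, 1, [7, 8, 6], [7, 8, 6], [1]), (0, 0, [], [], [1])] [] [(0, []), (2, []), (3, [0]), (2, []), (1, [])] 14 [14] [] [] [] [] [] = true := by
  decide +kernel

theorem cy7T : stepB (nat_lit 12) (nat_lit 100) (nat_lit 7) T2 Is cyg cyW cyV [(14, 14), (11, 11), (1, 1), (0, 0)] [(14, 14, [7, 11], [7, 11], [1]), (11, 11, [5, 3, 8, 3], [5, 3, 8, 3], [1]), (1, 1, [7, 8, 6], [7, 8, 6], [1])] [] [(1, []), (2, [0]), (0, [0, 0, 0]), (0, [])] 84 [84] [] [] [] [] [] = true := by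
  decide +kernel

theorem cy8T : stepB (nat_lit 12) (nat_lit 100) (nat_lit 7) T2 Is cyg cyW cyV [(84, 84), (14, 14), (11, 11), (1, 1), (0, 0)] [(84, 84, [5, 0, 9], [5, 0, 9], [1]), (14, 14, [7, 11], [7, 11], [1]), (1, 1, [7, 8, 6], [7, 8, 6], [1])] [] [(2, [0, 0]), (0, []), (1, [0]), (0, [])] 37 [37] [] [] [] [] [] = true := by
  decide +kernel

theorem clE : ∀ e ∈ [([7] ++ [9], [9] ++ [7]), (wpow [7] 6, []), (wpow [9] 2, wpow [7] 0)], ev s2 e.1 = ev s2 e.2 :=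
  rep2.eqB inj base (by decide +kernel)

theorem oE : ∀ e ∈ (outE 6 7 8 7 3 1 5 Rs), ev s2 e.1 = ev s2 e.2 :=
  rep2.eqB inj base (by decide +kernel)

theorem gE : ∀ e ∈ GE, ev s2 e.1 = ev s2 e.2 :=
  rep2.eqB inj base (by decide +kernel)

theorem ob0_ok : obsB (nat_lit 12) (nat_lit 100) T2 (ivl 0 50) 6 7 8 Rs ob0 = true := by
  decide +kernel

theorem tE : ∀ e ∈ ((R.map (subst tw)).map fun w => (w, ([] : List Nat))), ev s2 e.1 = ev s2 e.2 :=
  rep2.eqB inj base (by decide +kernel)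

theorem bE : ∀ e ∈ (betaE 6 7 8 (1, [7, 7, 7]) tw wx wy wz), ev s2 e.1 = ev s2 e.2 :=
  rep2.eqB inj base (by decide +kernel)

theorem non : nonB (nat_lit 12) (nat_lit 100) T2 (ivl 0 50) 6 7 8 (1, [7, 7, 7]) (grid [7] [9] 6 2) = true := by
  decide +kernel

theorem cxX : Ctx s2 (nat_lit 12) (nat_lit 100) (nat_lit 7) T2 phi Is cxg cxW cxV :=
  Ctx.of (V := [([6], [[0]]), ([7], [[0, 0, 0, 0, 0]])]) rep2 orbs (by norm_num) (by decide +kernel) cxE

theorem cx2N : No s2 phi cxg [(1, 4), (0, 35)] 11 cx2B :=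
  No.of_eq cx1F (by decide +kernel)

theorem cx3N : No s2 phi cxg [(0, 35)] 1 cx3B :=
  No.of_eq (No.append (No.leaf cxX cx3S cx3L0_ok) (No.step cxX cx2T cx2N)) (by decide +kernel)

theorem cx4N : No s2 phi cxg [] 0 cx4B :=
  No.of_eq (No.step cxX cx3T cx3N) (by decide +kernel)

theorem cx5N : No s2 phi cxg [(0, 0)] 1 cx5B :=
  No.of_eq (No.leaf cxX cx5S cx5L0_ok) (by decide +kernel)

theorem cxC5 : Cen s2 phi cxg [(84, 84), (14, 14), (11, 11), (1, 1), (0, 0)] (genW s2 cxW) :=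
  Cen.step cxX cx9T (No.nil _ _ _ _ _) (Cen.base inj base (by decide +kernel) _)

theorem cxC4 : Cen s2 phi cxg [(14, 14), (11, 11), (1, 1), (0, 0)] (genW s2 cxW) :=
  Cen.step cxX cx8T (No.nil _ _ _ _ _) cxC5

theorem cxC3 : Cen s2 phi cxg [(11, 11), (1, 1), (0, 0)] (genW s2 cxW) :=
  Cen.step cxX cx7T (No.nil _ _ _ _ _) cxC4

theorem cxC2 : Cen s2 phi cxg [(1, 1), (0, 0)] (genW s2 cxW) :=
  Cen.step cxX cx6T (No.nil _ _ _ _ _) cxC3

theorem cxC1 : Cen s2 phi cxg [(0, 0)] (genW s2 cxW) :=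
  Cen.step cxX cx5T cx5N cxC2

theorem cxC : Cen s2 phi cxg [] (genW s2 cxW) :=
  Cen.step cxX cx4T cx4N cxC1

theorem cyX : Ctx s2 (nat_lit 12) (nat_lit 100) (nat_lit 7) T2 phi Is cyg cyW cyV :=
  Ctx.of (V := [([7], [[0]]), ([9], [[0]]), ([8], [[0, 0, 0, 0, 0]])]) rep2 orbs (by norm_num) (by decide +kernel) cyE

theorem cy3N : No s2 phi cyg [(1, 3), (0, 0)] 11 cy3B :=
  No.of_eq cy2F (by decide +kernel)

theorem cy4N : No s2 phi cyg [(0, 0)] 1 cy4B :=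
  No.of_eq (No.append (No.leaf cyX cy4S cy4L0_ok) (No.step cyX cy3T cy3N)) (by decide +kernel)

theorem cyC5 : Cen s2 phi cyg [(84, 84), (14, 14), (11, 11), (1, 1), (0, 0)] (genW s2 cyW) :=
  Cen.step cyX cy8T (No.nil _ _ _ _ _) (Cen.base inj base (by decide +kernel) _)

theorem cyC4 : Cen s2 phi cyg [(14, 14), (11, 11), (1, 1), (0, 0)] (genW s2 cyW) :=
  Cen.step cyX cy7T (No.nil _ _ _ _ _) cyC5

theorem cyC3 : Cen s2 phi cyg [(11, 11), (1, 1), (0, 0)] (genW s2 cyW) :=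
  Cen.step cyX cy6T (No.nil _ _ _ _ _) cyC4

theorem cyC2 : Cen s2 phi cyg [(1, 1), (0, 0)] (genW s2 cyW) :=
  Cen.step cyX cy5T (No.nil _ _ _ _ _) cyC3

theorem cyC1 : Cen s2 phi cyg [(0, 0)] (genW s2 cyW) :=
  Cen.step cyX cy4T cy4N cyC2

theorem cyC : Cen s2 phi cyg [] (genW s2 cyW) :=
  Cen.step cyX cy1T (No.nil _ _ _ _ _) cyC1

theorem cl : ∀ c, Cm s2 [wpow [7] 1] c → ∃ w ∈ (grid [7] [9] 6 2), c = ev s2 w := fun c hc =>
  (mem_grid (by norm_num) (by norm_num) clE) c (cyC.top c hc)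

theorem beta : ∃ β : MulAut G, ∀ w, ltB 6 w = true → β (ev s2 w) = ev s2 (subst tw w) :=
  have := card.1; have := simple
  pres.aut (by decide +kernel) ext2.2 (sat_of_eqs tE) (by norm_num)
    (rep2.ne (show neqB (nat_lit 12) (nat_lit 100) T2 (ivl 0 50) _ [] = true by decide +kernel))

theorem out : Nat.card (Cfsg.Out G) = 2 :=
  have := card.1
  out_two (a₀ := (1, [7, 7, 7])) (out_cases (p := 7) (by norm_num) (by rw [card.2.1]; norm_num)
    (rep2.ne (show neqB (nat_lit 12) (nat_lit 100) T2 (ivl 0 50) [6] [] = true by decide +kernel)) cxC.top cl oE (I := [1]) (by decide +kernel)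
    (Obs.of rep2 ob0_ok))
    (gen_top_of_eq rep.top ext2.2) gE (by decide +kernel) beta.choose
    (not_inner rep2 cl bE (by decide +kernel) non beta.choose_spec)


end Cfsg.Agent.Comp.J2
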