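import Cfsg.Agent.Comp.TC
import Cfsg.Agent.Comp.J2.Pres

set_option autoImplicit false
set_option maxRecDepth 100000

namespace Cfsg.Agent.Comp.J2.Top
open Cfsg.Agent.Comp

noncomputable def t0 : Tr := (Tr.node (nat_lit 2) (Tr.node (nat_lit 0) (Tr.leaf (nat_lit 0x6429fffc10f8014022a067018f80b16129fffc0cf039e033c0e7800a01ab6029fffc05802aa022e046005780146427fffc05700130344087c05680ac6327fffc10d81a20026045018d81986127fffc08980ab05340668009821a6425fffc2d20012034e02a80d000a96325fffc05400a700240674053021b6225fffc10b80a5033a004814b81136125fffc0cb00a401460c5800901964423fffc0d08011033e028805080a04323fffc08a009f0022066c04f009d4223fffc0cd009c0136004404d01974023fffc08900990130025c04b00112521fffc00800950128024c08880920001fffc0488090012002400480090))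
(Tr.node (nat_lit 1) (Tr.leaf (nat_lit 0x813bfffc067084d065e033400e82448539fffc00e034c0198032c0e480ca8139fffc06481c413900eb400e00c88039fffc063843905400ac4063001c8435fffc062801a06560cac062011e8233fffc061821d024a006406101c18033fffc35001200672030415200198531fffc00c0bb803500aa00de82a88431fffc06000180232069405f80be8131fffc05e80bc036c02ec00c03a6842ffffc11280170354089c05d00b9842dfffc30c8016036e10dc11483a1832dfffc05c00b7002c0e8c05b03a3622bfffc05a811b0238005405a01b2612bfffc08a81a1054202cc00a8324602bfffc31481a9065802c808c8015))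
(Tr.leaf (nat_lit 0xa14ffffc46981df078c194c01385d1a04ffffc0720332058208e425b8027a54dfffc01300e312c4038809400e1a44dfffc55900260ca0038006f87dea24dfffc1a6874209b20098126843ba14bfffc15d033a01bc270001284c2a04bfffc06e83ac05520af81a08025a547fffc0118b2804700ee00ed00dca447fffc06d802302480e9021f0533a147fffc06d05d0024c136401180d98545fffc01100d806ae035c0ea80d68145fffc06a83b401a8074401100d38243fffc06903330666008406884b78241fffc51e03be046200800680122803ffffc2678341056408b0067801f853bfffc00e833005600cc00e701b0))))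
(Tr.node (nat_lit 4) (Tr.node (nat_lit 3) (Tr.leaf (nat_lit 0xa163fffc21884460bbe03c001883cfa55ffffc017884a01de1fb809800eea25ffffc1dd87af079a00bc0dd82e7a35dfffc1eb82ae005c0f481e605e5a25dfffc26583cb08a400b822581eca05dfffc0f587ce01da03b02a5002ea55bfffc016824908920f2409704c9a05bfffc22408e7125a112036a002da559fffc01603c70fba0fac0f500eba159fffc07504cf067e03a40160654a557fffc015845707b015140f40245a157fffc074012d09ce039c01581afa555fffc015034305861d580f306d7a155fffc07307bb0ec00940015043aa253fffc07282b1047c00a41dc812aa54ffffc0138a5b0eb624e842989d0))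
(Tr.leaf (nat_lit 0xc179fffc5a8013f0a9e1f9001e0964c375fffc56b03de0074216c3f0073cc573fffc01c83dd0e8e2f9827282ddc071fffc22e0c5c08b8117032e0038c56ffffc01b8ac00d8023782f20960c56dfffc01b07ec0cdc13bc09c05dac06dfffc2ac85e0087610d822c8036a46bfffc22c0035068a0f6022c05d8a26bfffc1a604c5056a00d416b8643a06bfffc5af065607ac1b0c5f68035a569fffc01a03d508aa095409a8c72a369fffc26a0454006809c43a405c6a069fffc49f87700ed216fc3e00034a567fffc01984d207960d300f9056da167fffc07904f101e204d0019853fa165fffc5ef85360d7807080190a40)))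
(Tr.node (nat_lit 5) (Tr.leaf (nat_lit 0xc39dfffc1f7876d009c11681b7866fc09dfffc3f105650db41d38137004ec395fffc4f007ef009419945ab04d2c295fffc338085a0dca0128571814bc08ffffc0a50ae614cc0d1c2f58047c58dfffc023086215c619a80a386eac28dfffc53187e40da601181b80871c589fffc022026809d023840a28862c289fffc2b38848088801101f3824dc585fffc0210b6b15d62d740a18566c583fffc02085ee0ed81bb422e854cc57dfffc01f08690fe0217c2ad88dfc47bfffc4f4803d16d4278c5b60ae3c27bfffc43708ea117a00f41b108e8c07bfffc2308a6113c225a01b0803dc279fffc53685590d8400f03af08db))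
(Tr.leaf (nat_lit 0x1ffffffffffffffffffffffffff0001ffffffffffffffffffffffffff0001ffffffffffffffffffffffffff0001ffffffffffffffffffffffffff0001ffffffffffffffffffffffffff0001ffffffffffffffffffffffffff0001ffffffffffffffffffffffffff0001ffffffffffffffffffffffffff0001ffffffffffffffffffffffffff0001ffffffffffffffffffffffffff0001ffffffffffffffffffffffffff0001ffffffffffffffffffffffffffe4e5fffc2f980720ae615cc2b98cf3c5a3fffc02880f309e409c80a90bd5c3a3fffc2b8845100a207501f887e9c29ffffc2f606d30ec8013c1748470)))))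

noncomputable def T : Tr := t0

def RT : List (List (List Nat)) := [
  [[nat_lit 2, nat_lit 0, nat_lit 2],
   [nat_lit 2, nat_lit 3, nat_lit 0, nat_lit 3],
   [nat_lit 7],
   [nat_lit 1, nat_lit 0, nat_lit 1, nat_lit 0, nat_lit 1],
   [nat_lit 5, nat_lit 2, nat_lit 5, nat_lit 2, nat_lit 0, nat_lit 5, nat_lit 2, nat_lit 5],
   [nat_lit 3, nat_lit 0, nat_lit 2, nat_lit 3],
   [nat_lit 5, nat_lit 0, nat_lit 5, nat_lit 0, nat_lit 5],
   [nat_lit 3, nat_lit 2, nat_lit 0, nat_lit 3],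
   [nat_lit 4, nat_lit 1, nat_lit 2, nat_lit 5, nat_lit 3, nat_lit 1, nat_lit 0, nat_lit 4, nat_lit 1, nat_lit 2, nat_lit 5, nat_lit 3, nat_lit 1],
   [nat_lit 4, nat_lit 0, nat_lit 4, nat_lit 0, nat_lit 4],
   [nat_lit 5, nat_lit 0, nat_lit 4, nat_lit 1, nat_lit 0, nat_lit 4, nat_lit 5, nat_lit 4, nat_lit 0, nat_lit 1, nat_lit 4],
   [nat_lit 3, nat_lit 0, nat_lit 3, nat_lit 2]],
  [[nat_lit 5, nat_lit 1, nat_lit 5],
   [nat_lit 2, nat_lit 1, nat_lit 2, nat_lit 1, nat_lit 2],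
   [nat_lit 7],
   [nat_lit 0, nat_lit 1, nat_lit 0, nat_lit 1, nat_lit 0],
   [nat_lit 3, nat_lit 1, nat_lit 3, nat_lit 1, nat_lit 3],
   [nat_lit 4, nat_lit 1, nat_lit 4, nat_lit 1, nat_lit 4],
   [nat_lit 0, nat_lit 4, nat_lit 5, nat_lit 4, nat_lit 0, nat_lit 1, nat_lit 4, nat_lit 0, nat_lit 5, nat_lit 0, nat_lit 4],
   [nat_lit 0, nat_lit 4, nat_lit 0, nat_lit 1, nat_lit 0, nat_lit 4, nat_lit 0, nat_lit 1, nat_lit 0, nat_lit 4, nat_lit 0]],
  [[nat_lit 3, nat_lit 2, nat_lit 3],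
   [nat_lit 0, nat_lit 3, nat_lit 0, nat_lit 3],
   [nat_lit 3, nat_lit 4, nat_lit 2, nat_lit 4],
   [nat_lit 0, nat_lit 2, nat_lit 0],
   [nat_lit 1, nat_lit 2, nat_lit 1, nat_lit 2, nat_lit 1],
   [nat_lit 7],
   [nat_lit 4, nat_lit 3, nat_lit 2, nat_lit 4],
   [nat_lit 5, nat_lit 3, nat_lit 2, nat_lit 5, nat_lit 2, nat_lit 3, nat_lit 5, nat_lit 3],
   [nat_lit 3, nat_lit 5, nat_lit 3, nat_lit 2, nat_lit 5, nat_lit 3, nat_lit 2, nat_lit 5],
   [nat_lit 3, nat_lit 5, nat_lit 3, nat_lit 2, nat_lit 5, nat_lit 2, nat_lit 3, nat_lit 5],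
   [nat_lit 4, nat_lit 2, nat_lit 3, nat_lit 4],
   [nat_lit 3, nat_lit 0, nat_lit 3, nat_lit 0],
   [nat_lit 5, nat_lit 1, nat_lit 2, nat_lit 1, nat_lit 5, nat_lit 2, nat_lit 5, nat_lit 1],
   [nat_lit 5, nat_lit 1, nat_lit 2, nat_lit 5, nat_lit 1, nat_lit 2, nat_lit 1, nat_lit 5],
   [nat_lit 5, nat_lit 2, nat_lit 3, nat_lit 5, nat_lit 2, nat_lit 3, nat_lit 5, nat_lit 3],
   [nat_lit 0, nat_lit 5, nat_lit 2, nat_lit 0, nat_lit 5, nat_lit 0, nat_lit 2, nat_lit 5]],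
  [[nat_lit 4, nat_lit 3, nat_lit 4],
   [nat_lit 0, nat_lit 3, nat_lit 0, nat_lit 2],
   [nat_lit 2, nat_lit 4, nat_lit 2, nat_lit 4],
   [nat_lit 2, nat_lit 0, nat_lit 3, nat_lit 0],
   [nat_lit 0, nat_lit 2, nat_lit 3, nat_lit 0],
   [nat_lit 1, nat_lit 3, nat_lit 1, nat_lit 3, nat_lit 1],
   [nat_lit 5, nat_lit 3, nat_lit 5, nat_lit 3, nat_lit 5],
   [nat_lit 2, nat_lit 3, nat_lit 2],
   [nat_lit 7],
   [nat_lit 0, nat_lit 3, nat_lit 2, nat_lit 0],
   [nat_lit 4, nat_lit 5, nat_lit 4, nat_lit 3, nat_lit 5, nat_lit 3, nat_lit 4, nat_lit 5],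
   [nat_lit 5, nat_lit 3, nat_lit 2, nat_lit 5, nat_lit 2, nat_lit 3, nat_lit 5, nat_lit 2],
   [nat_lit 2, nat_lit 5, nat_lit 3, nat_lit 2, nat_lit 5, nat_lit 2, nat_lit 3, nat_lit 5],
   [nat_lit 4, nat_lit 5, nat_lit 4, nat_lit 3, nat_lit 5, nat_lit 4, nat_lit 3, nat_lit 5]],
  [[nat_lit 2, nat_lit 4, nat_lit 2, nat_lit 3],
   [nat_lit 0, nat_lit 4, nat_lit 0, nat_lit 4, nat_lit 0],
   [nat_lit 3, nat_lit 4, nat_lit 3],
   [nat_lit 2, nat_lit 3, nat_lit 4, nat_lit 2],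
   [nat_lit 1, nat_lit 4, nat_lit 1, nat_lit 4, nat_lit 1],
   [nat_lit 5, nat_lit 1, nat_lit 4, nat_lit 1, nat_lit 5, nat_lit 4, nat_lit 5, nat_lit 1],
   [nat_lit 5, nat_lit 1, nat_lit 4, nat_lit 5, nat_lit 1, nat_lit 4, nat_lit 1, nat_lit 5],
   [nat_lit 3, nat_lit 2, nat_lit 4, nat_lit 2],
   [nat_lit 3, nat_lit 5, nat_lit 4, nat_lit 3, nat_lit 5, nat_lit 3, nat_lit 4, nat_lit 5],
   [nat_lit 2, nat_lit 4, nat_lit 3, nat_lit 2],
   [nat_lit 7],
   [nat_lit 5, nat_lit 3, nat_lit 1, nat_lit 4, nat_lit 5, nat_lit 4, nat_lit 1, nat_lit 3, nat_lit 5],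
   [nat_lit 3, nat_lit 5, nat_lit 3, nat_lit 4, nat_lit 5, nat_lit 4, nat_lit 3, nat_lit 5],
   [nat_lit 0, nat_lit 5, nat_lit 0, nat_lit 4, nat_lit 1, nat_lit 0, nat_lit 4, nat_lit 5, nat_lit 4, nat_lit 0, nat_lit 1]],
  [[nat_lit 0, nat_lit 5, nat_lit 0, nat_lit 5, nat_lit 0],
   [nat_lit 1, nat_lit 5, nat_lit 1],
   [nat_lit 2, nat_lit 0, nat_lit 5, nat_lit 0, nat_lit 2, nat_lit 5, nat_lit 2, nat_lit 0],
   [nat_lit 1, nat_lit 2, nat_lit 5, nat_lit 1, nat_lit 2, nat_lit 1, nat_lit 5, nat_lit 2],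
   [nat_lit 3, nat_lit 5, nat_lit 3, nat_lit 5, nat_lit 3],
   [nat_lit 2, nat_lit 5, nat_lit 1, nat_lit 2, nat_lit 1, nat_lit 5, nat_lit 2, nat_lit 1],
   [nat_lit 3, nat_lit 2, nat_lit 5, nat_lit 2, nat_lit 3, nat_lit 5, nat_lit 3, nat_lit 2],
   [nat_lit 1, nat_lit 2, nat_lit 1, nat_lit 5, nat_lit 2, nat_lit 1, nat_lit 5, nat_lit 2],
   [nat_lit 1, nat_lit 4, nat_lit 5, nat_lit 1, nat_lit 4, nat_lit 1, nat_lit 5, nat_lit 4],
   [nat_lit 4, nat_lit 3, nat_lit 5, nat_lit 3, nat_lit 4, nat_lit 5, nat_lit 4, nat_lit 3],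
   [nat_lit 0, nat_lit 4, nat_lit 1, nat_lit 0, nat_lit 4, nat_lit 5, nat_lit 4, nat_lit 0, nat_lit 1, nat_lit 4, nat_lit 0],
   [nat_lit 4, nat_lit 0, nat_lit 1, nat_lit 4, nat_lit 0, nat_lit 5, nat_lit 0, nat_lit 4, nat_lit 1, nat_lit 0, nat_lit 4],
   [nat_lit 1, nat_lit 4, nat_lit 1, nat_lit 5, nat_lit 4, nat_lit 5, nat_lit 1, nat_lit 4],
   [nat_lit 1, nat_lit 2, nat_lit 1, nat_lit 5, nat_lit 2, nat_lit 5, nat_lit 1, nat_lit 2],
   [nat_lit 2, nat_lit 0, nat_lit 5, nat_lit 0, nat_lit 2, nat_lit 5, nat_lit 0, nat_lit 2],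
   [nat_lit 0, nat_lit 5, nat_lit 2, nat_lit 5, nat_lit 2, nat_lit 0, nat_lit 5, nat_lit 2],
   [nat_lit 0, nat_lit 2, nat_lit 5, nat_lit 2, nat_lit 0, nat_lit 5, nat_lit 0, nat_lit 2],
   [nat_lit 0, nat_lit 5, nat_lit 2, nat_lit 5, nat_lit 0, nat_lit 2, nat_lit 5, nat_lit 2],
   [nat_lit 4, nat_lit 3, nat_lit 5, nat_lit 4, nat_lit 3, nat_lit 5, nat_lit 3, nat_lit 4]],
  []]

def HT : List (List (Nat × Nat × Nat)) := [
  [(0, 7, 1), (0, 10, 1), (2, 0, 0), (0, 6, 1), (1, 24, 4), (0, 10, 4), (0, 18, 1), (1, 10, 2), (1, 28, 0), (0, 14, 1), (0, 26, 4), (1, 10, 0)],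
  [(0, 17, 1), (0, 8, 1), (2, 1, 0), (0, 6, 0), (0, 11, 1), (0, 15, 1), (0, 26, 8), (0, 16, 2)],
  [(0, 9, 1), (1, 10, 4), (0, 13, 1), (0, 7, 0), (0, 8, 0), (2, 2, 0), (1, 13, 2), (1, 25, 6), (1, 25, 2), (0, 25, 4), (0, 13, 4), (0, 10, 2), (1, 20, 5), (1, 20, 2), (0, 25, 8), (1, 22, 5)],
  [(0, 12, 1), (0, 10, 3), (1, 13, 4), (1, 10, 3), (0, 10, 0), (0, 11, 0), (0, 19, 1), (0, 9, 0), (2, 3, 0), (1, 10, 1), (0, 23, 4), (0, 25, 5), (1, 25, 5), (1, 23, 2)],
  [(0, 13, 3), (0, 14, 0), (0, 12, 0), (0, 13, 0), (0, 15, 0), (1, 21, 5), (1, 21, 2), (1, 13, 3), (1, 23, 5), (1, 13, 1), (2, 4, 0), (0, 27, 4), (1, 23, 8), (0, 26, 3)],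
  [(0, 18, 0), (0, 17, 0), (1, 22, 7), (1, 20, 3), (0, 19, 0), (0, 20, 7), (1, 25, 7), (0, 20, 0), (1, 21, 3), (1, 23, 7), (0, 26, 5), (0, 26, 11), (1, 21, 6), (1, 20, 6), (0, 22, 6), (1, 24, 3), (0, 22, 3), (0, 24, 5), (1, 23, 4)],
  []]

def W : List (List Nat) := [[0],
   [1],
   [2],
   [3],
   [4]]

noncomputable def P : Par := ⟨T, (nat_lit 4), (nat_lit 15), (nat_lit 120), (nat_lit 15), (nat_lit 32767), (nat_lit 7), (nat_lit 127), (nat_lit 6), (nat_lit 116), (nat_lit 128), (nat_lit 0x398a418820), RT⟩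

noncomputable def J0 : List Nat := [
  nat_lit 0x22c20008b080025c2000a308002ac20020100008206080000080801040000100010406020000104004b04c000c088b040020100010400020000106004d04c801408cc282040100000820030403180004104c730c080c4141581,
  nat_lit 0x828000110258204194040082410009c0282000101c00820020000105a04b0400000080041410014012804103040000c004008241000a80c1410018200180002082600000400000104082080e0001,
  nat_lit 0x401485410304050000044082504c08810525001041000c00200000082041040700008068141001001283410305203100041040030c0881040438100002820020100008206080a028008208000181,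
  nat_lit 0x10040141022041288004b04000000800043a0812c1000c002803004820410407000080000360818252880c028138e88206094004800807040b30101c105400201c14980040200010409608006701,
  nat_lit 0x41300c0025826000004008349040c1314000011801048602013c878206080ab1800a0705c030149d0c8260304a3180c050201890408000402081825298620280010d8204e034124808208846181,
  nat_lit 0x11a0a4400304a05a4404038280000ac08041a016880004102c1000082050210010408870483301408a73c10200414900050233d1040c11450210110a0a400029116080406095a07a4088cb825301,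
  nat_lit 0x10e0a16f02730a0a4c04a271c1040acec141501020408102040810204081020408102040810204081020408102040810204081020408102040810204081020408102040810204081020408102040810204081020408102040810204081]

theorem c0 : chk T (nat_lit 4) (nat_lit 15) (nat_lit 120) (nat_lit 15) (nat_lit 32767) (nat_lit 7) (nat_lit 127) (nat_lit 6) (nat_lit 116) (nat_lit 128) (nat_lit 0x398a418820) (nat_lit 5) (nat_lit 31) RT (nat_lit 16) J0 (nat_lit 16) = true := by
  decide +kernel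

theorem r0 : P.RowsOK 16 128 := chk_sound P _ _ _ J0 _ _ (by decide +kernel) c0

theorem index.{u} : IndexLe.{u} 6 J2.R W 100 :=
  indexLe_of_cert P HT (by decide +kernel)
    (show P.RowsOK 16 128 from r0)

end Cfsg.Agent.Comp.J2.Top
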