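import Cfsg.Agent.Comp.J2.Pres
import Cfsg.Agent.Comp.J2.Top

set_option autoImplicit false
set_option maxRecDepth 100000

namespace Cfsg.Agent.Comp.J2
open Cfsg.Agent.Comp

namespace Tk4

noncomputable def t0 : Tr := (Tr.leaf (nat_lit 0x1fffff800fffffc007ffffe003fffff001fffff800fffffc007ffffe003fffff001fffff800fffffc007ffffe003fffff001fffff800fffffe087ff020003ff831))

noncomputable def T : Tr := t0

def RT : List (List (List Nat)) := [
  [],
  []]

def HT : List (List (Nat × Nat × Nat)) := [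
  [],
  []]

def R : List (List Nat) :=
  [[0, 0]]

def W : List (List Nat) := []

noncomputable def P : Par := ⟨T, (nat_lit 4), (nat_lit 15), (nat_lit 33), (nat_lit 11), (nat_lit 2047), (nat_lit 5), (nat_lit 31), (nat_lit 1), (nat_lit 18), (nat_lit 32), (nat_lit 0x820), RT⟩

noncomputable def J0 : List Nat := [
  nat_lit 0x69249249249249249249249]

theorem c0 : chk T (nat_lit 4) (nat_lit 15) (nat_lit 33) (nat_lit 11) (nat_lit 2047) (nat_lit 5) (nat_lit 31) (nat_lit 1) (nat_lit 18) (nat_lit 32) (nat_lit 0x820) (nat_lit 1) (nat_lit 1) RT (nat_lit 16) J0 (nat_lit 16) = true := by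
  decide +kernel

theorem r0 : P.RowsOK 16 32 := chk_sound P _ _ _ J0 _ _ (by decide +kernel) c0

theorem index.{u} : IndexLe.{u} 1 R W 2 :=
  indexLe_of_cert P HT (by decide +kernel)
    (show P.RowsOK 16 32 from r0)

end Tk4

theorem upK_4 : CardLe (genW s [[0]]) 2 :=
  CardLe.tc (V' := []) (n := 2) (m := 1) [0] Tk4.index pres.sat (by decide +kernel) (by decide +kernel) (by decide +kernel) (cardLe_nil s)

namespace Tk3

noncomputable def t0 : Tr := (Tr.leaf (nat_lit 0xfffffffff000fffffffff000fffffffff000fffffffff000fffffffff000fffffffff000fffffffff000fffffffff000fffffffff000fffffffff000fffffffff000fffffffff000fffffffff811fff052011430fff010032000fff031030))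

noncomputable def T : Tr := t0

def RT : List (List (List Nat)) := [
  [[nat_lit 3]],
  [[nat_lit 0, nat_lit 1, nat_lit 0, nat_lit 1, nat_lit 0]],
  []]

def HT : List (List (Nat × Nat × Nat)) := [
  [(2, 0, 0)],
  [(0, 2, 0)],
  []]

def R : List (List Nat) :=
  [[0, 0],
   [1, 1],
   [0, 1, 0, 1, 0, 1]]

def W : List (List Nat) := [[0]]

noncomputable def P : Par := ⟨T, (nat_lit 4), (nat_lit 15), (nat_lit 48), (nat_lit 12), (nat_lit 4095), (nat_lit 5), (nat_lit 31), (nat_lit 2), (nat_lit 19), (nat_lit 32), (nat_lit 0x18820), RT⟩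

noncomputable def J0 : List Nat := [
  nat_lit 0x134124661111111111111111111111111111111111111111]

theorem c0 : chk T (nat_lit 4) (nat_lit 15) (nat_lit 48) (nat_lit 12) (nat_lit 4095) (nat_lit 5) (nat_lit 31) (nat_lit 2) (nat_lit 19) (nat_lit 32) (nat_lit 0x18820) (nat_lit 2) (nat_lit 3) RT (nat_lit 16) J0 (nat_lit 16) = true := by
  decide +kernel

theorem r0 : P.RowsOK 16 32 := chk_sound P _ _ _ J0 _ _ (by decide +kernel) c0

theorem index.{u} : IndexLe.{u} 2 R W 3 :=
  indexLe_of_cert P HT (by decide +kernel)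
    (show P.RowsOK 16 32 from r0)

end Tk3

theorem upK_3 : CardLe (genW s [[0], [1]]) 6 :=
  CardLe.tc (V' := [[0]]) (n := 3) (m := 2) [0, 1] Tk3.index pres.sat (by decide +kernel) (by decide +kernel) (by decide +kernel) upK_4

namespace Tk2

noncomputable def t0 : Tr := (Tr.leaf (nat_lit 0xffffffffffff000ffffffffffff000ffffffffffff000ffffffffffff000ffffffffffff000ffffffffffff000ffffffffffff000ffffffffffff000ffffffffffff000ffffffffffff000ffffffffffff000ffffffffffffc12fff073073012831fff052011033450fff010032051000fff031030030))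

noncomputable def T : Tr := t0

def RT : List (List (List Nat)) := [
  [[nat_lit 4],
   [nat_lit 2, nat_lit 0, nat_lit 2]],
  [[nat_lit 0, nat_lit 1, nat_lit 0, nat_lit 1, nat_lit 0],
   [nat_lit 4]],
  [[nat_lit 1, nat_lit 2, nat_lit 1, nat_lit 2, nat_lit 1],
   [nat_lit 0, nat_lit 2, nat_lit 0]],
  []]

def HT : List (List (Nat × Nat × Nat)) := [
  [(2, 0, 0), (0, 4, 1)],
  [(0, 3, 0), (2, 1, 0)],
  [(0, 5, 0), (0, 4, 0)],
  []]

def R : List (List Nat) :=
  [[0, 0],
   [1, 1],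
   [2, 2],
   [0, 1, 0, 1, 0, 1],
   [0, 2, 0, 2],
   [1, 2, 1, 2, 1, 2]]

def W : List (List Nat) := [[0],
   [1]]

noncomputable def P : Par := ⟨T, (nat_lit 4), (nat_lit 15), (nat_lit 60), (nat_lit 12), (nat_lit 4095), (nat_lit 5), (nat_lit 31), (nat_lit 3), (nat_lit 20), (nat_lit 32), (nat_lit 0x418820), RT⟩

noncomputable def J0 : List Nat := [
  nat_lit 0x134001741c912619b1111111111111111111111111111111111111111111111111]

theorem c0 : chk T (nat_lit 4) (nat_lit 15) (nat_lit 60) (nat_lit 12) (nat_lit 4095) (nat_lit 5) (nat_lit 31) (nat_lit 3) (nat_lit 20) (nat_lit 32) (nat_lit 0x418820) (nat_lit 2) (nat_lit 3) RT (nat_lit 16) J0 (nat_lit 16) = true := by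
  decide +kernel

theorem r0 : P.RowsOK 16 32 := chk_sound P _ _ _ J0 _ _ (by decide +kernel) c0

theorem index.{u} : IndexLe.{u} 3 R W 4 :=
  indexLe_of_cert P HT (by decide +kernel)
    (show P.RowsOK 16 32 from r0)

end Tk2

theorem upK_2 : CardLe (genW s [[0], [1], [2]]) 24 :=
  CardLe.tc (V' := [[0], [1]]) (n := 4) (m := 6) [0, 1, 2] Tk2.index pres.sat (by decide +kernel) (by decide +kernel) (by decide +kernel) upK_3

namespace Tk1

noncomputable def t0 : Tr := (Tr.leaf (nat_lit 0x7fffffffffffffffc001ffffffffffffffff0007fffffffffffffffc001ffffffffffffffff0007fffffffffffffffc001ffffffffffffffff0007fffffffffffffffc001ffffffffffffffff0007fffffffffffffffe86bfff05b025802a096829fffc0e601301b01518a5fff03a00480e80756097ffc12a0350398049063fff02900d00220332387ffc0200510190144001fff01880c0060030))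

noncomputable def T : Tr := t0

def RT : List (List (List Nat)) := [
  [[nat_lit 2, nat_lit 0, nat_lit 2],
   [nat_lit 5],
   [nat_lit 3, nat_lit 0, nat_lit 2, nat_lit 3],
   [nat_lit 1, nat_lit 0, nat_lit 1, nat_lit 0, nat_lit 1]],
  [[nat_lit 5],
   [nat_lit 2, nat_lit 1, nat_lit 2, nat_lit 1, nat_lit 2],
   [nat_lit 0, nat_lit 1, nat_lit 0, nat_lit 1, nat_lit 0]],
  [[nat_lit 5],
   [nat_lit 3, nat_lit 2, nat_lit 3],
   [nat_lit 1, nat_lit 2, nat_lit 1, nat_lit 2, nat_lit 1]],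
  [[nat_lit 1, nat_lit 3, nat_lit 1, nat_lit 3, nat_lit 1],
   [nat_lit 2, nat_lit 3, nat_lit 2],
   [nat_lit 2, nat_lit 0, nat_lit 3, nat_lit 0]],
  []]

def HT : List (List (Nat × Nat × Nat)) := [
  [(0, 5, 1), (2, 0, 0), (0, 8, 4), (0, 4, 1)],
  [(2, 1, 0), (0, 6, 1), (0, 4, 0)],
  [(2, 2, 0), (0, 7, 1), (0, 6, 0)],
  [(0, 9, 0), (0, 7, 0), (1, 8, 3)],
  []]

def R : List (List Nat) :=
  [[0, 0],
   [1, 1],
   [2, 2],
   [3, 3],
   [0, 1, 0, 1, 0, 1],
   [0, 2, 0, 2],
   [1, 2, 1, 2, 1, 2],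
   [2, 3, 2, 3],
   [0, 2, 3, 0, 3],
   [1, 3, 1, 3, 1, 3]]

def W : List (List Nat) := [[0],
   [1],
   [2]]

noncomputable def P : Par := ⟨T, (nat_lit 4), (nat_lit 15), (nat_lit 78), (nat_lit 13), (nat_lit 8191), (nat_lit 5), (nat_lit 31), (nat_lit 4), (nat_lit 23), (nat_lit 32), (nat_lit 0xa418820), RT⟩

noncomputable def J0 : List Nat := [
  nat_lit 0x9c8002320008c80c0e21110831800438b0a1181b188210842108421084210842108421084210842108421084210842108421]

theorem c0 : chk T (nat_lit 4) (nat_lit 15) (nat_lit 78) (nat_lit 13) (nat_lit 8191) (nat_lit 5) (nat_lit 31) (nat_lit 4) (nat_lit 23) (nat_lit 32) (nat_lit 0xa418820) (nat_lit 3) (nat_lit 7) RT (nat_lit 16) J0 (nat_lit 16) = true := by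
  decide +kernel

theorem r0 : P.RowsOK 16 32 := chk_sound P _ _ _ J0 _ _ (by decide +kernel) c0

theorem index.{u} : IndexLe.{u} 4 R W 7 :=
  indexLe_of_cert P HT (by decide +kernel)
    (show P.RowsOK 16 32 from r0)

end Tk1

theorem upK_1 : CardLe (genW s [[0], [1], [2], [3]]) 168 :=
  CardLe.tc (V' := [[0], [1], [2]]) (n := 7) (m := 24) [0, 1, 2, 3] Tk1.index pres.sat (by decide +kernel) (by decide +kernel) (by decide +kernel) upK_2

namespace Tk0

noncomputable def t0 : Tr := (Tr.node (nat_lit 0) (Tr.leaf (nat_lit 0x805ffff059409b0270067005e0d6fffc0d6005809701980dc8457fff00540e4019411d03760d5fffc06400540df0c7011e8257fff018c0df0054062025a114fffc014118441a03680da8253fff01843d400501190382014fffc0980d600600254014634ffff035c01303780d7017d893fffc11e017801303580db604ffff017405c016c0d8004d852fffc05a0e6405900480584147fff024c05701580110155011fffc09204480d201500112443fff004009102440530148000fffc05101400500140050))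
(Tr.node (nat_lit 1) (Tr.leaf (nat_lit 0xe3a3fff0ba002804a83ef05ab127fffc02715c057006cc631c39ffff14c00270eb40ea0eb7065fffc07308b016c0094072c193fff0bac16b0aac0240aaf0e2fffc2ea008816f04b41afc187fff05a44a901c402101c3060fffc32f01bc0e20080168a17ffff01b806d0d9c01f049e85efffc16604981260078366a277fff047c0a3007406c049691cfffc01c02740e301ac123a46ffff006c0e50490263059285bfffc2a201a8128006c122a467fff006441a10840691286898fffc3a00e8001801a0099))
(Tr.leaf (nat_lit 0x3ffffffffffffffffffffc000fffffffffffffffffffff0003ffffffffffffffffffffc000fffffffffffffffffffff0003ffffffffffffffffffffc000fffffffffffffffffffff0003ffffffffffffffffffffc000fffffffffffffffffffff0003ffffffffffffffffffffc000fffffffffffffffffffff0003ffffffffffffffffffffc000fffffffffffffffffffffe4b3fff00b027309cc16e07cf82cfffc1b207c81b205c802ce2a7fff13c44f100a447117bb829fffc4ed16b85ae13c0029))))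

noncomputable def T : Tr := t0

def RT : List (List (List Nat)) := [
  [[nat_lit 2, nat_lit 0, nat_lit 2],
   [nat_lit 2, nat_lit 3, nat_lit 0, nat_lit 3],
   [nat_lit 6],
   [nat_lit 4, nat_lit 0, nat_lit 4, nat_lit 0, nat_lit 4],
   [nat_lit 3, nat_lit 0, nat_lit 2, nat_lit 3],
   [nat_lit 1, nat_lit 0, nat_lit 1, nat_lit 0, nat_lit 1],
   [nat_lit 3, nat_lit 2, nat_lit 0, nat_lit 3]],
  [[nat_lit 0, nat_lit 1, nat_lit 0, nat_lit 1, nat_lit 0],
   [nat_lit 3, nat_lit 1, nat_lit 3, nat_lit 1, nat_lit 3],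
   [nat_lit 4, nat_lit 1, nat_lit 4, nat_lit 1, nat_lit 4],
   [nat_lit 6],
   [nat_lit 2, nat_lit 1, nat_lit 2, nat_lit 1, nat_lit 2]],
  [[nat_lit 3, nat_lit 2, nat_lit 3],
   [nat_lit 0, nat_lit 3, nat_lit 0, nat_lit 3],
   [nat_lit 3, nat_lit 4, nat_lit 2, nat_lit 4],
   [nat_lit 1, nat_lit 2, nat_lit 1, nat_lit 2, nat_lit 1],
   [nat_lit 0, nat_lit 2, nat_lit 0],
   [nat_lit 6],
   [nat_lit 4, nat_lit 2, nat_lit 3, nat_lit 4],
   [nat_lit 4, nat_lit 3, nat_lit 2, nat_lit 4]],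
  [[nat_lit 4, nat_lit 3, nat_lit 4],
   [nat_lit 0, nat_lit 3, nat_lit 0, nat_lit 2],
   [nat_lit 2, nat_lit 4, nat_lit 2, nat_lit 4],
   [nat_lit 1, nat_lit 3, nat_lit 1, nat_lit 3, nat_lit 1],
   [nat_lit 6],
   [nat_lit 2, nat_lit 0, nat_lit 3, nat_lit 0],
   [nat_lit 2, nat_lit 3, nat_lit 2]],
  [[nat_lit 2, nat_lit 4, nat_lit 2, nat_lit 3],
   [nat_lit 0, nat_lit 4, nat_lit 0, nat_lit 4, nat_lit 0],
   [nat_lit 1, nat_lit 4, nat_lit 1, nat_lit 4, nat_lit 1],
   [nat_lit 3, nat_lit 4, nat_lit 3],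
   [nat_lit 3, nat_lit 2, nat_lit 4, nat_lit 2],
   [nat_lit 0, nat_lit 1, nat_lit 0, nat_lit 4, nat_lit 0, nat_lit 1, nat_lit 0, nat_lit 4, nat_lit 0, nat_lit 1, nat_lit 0],
   [nat_lit 2, nat_lit 3, nat_lit 4, nat_lit 2]],
  []]

def HT : List (List (Nat × Nat × Nat)) := [
  [(0, 6, 1), (0, 9, 1), (2, 0, 0), (0, 13, 1), (0, 9, 4), (0, 5, 1), (1, 9, 2)],
  [(0, 5, 0), (0, 10, 1), (0, 14, 1), (2, 1, 0), (0, 7, 1)],
  [(0, 8, 1), (1, 9, 4), (0, 12, 1), (0, 7, 0), (0, 6, 0), (2, 2, 0), (0, 12, 4), (1, 12, 2)],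
  [(0, 11, 1), (0, 9, 3), (1, 12, 4), (0, 10, 0), (2, 3, 0), (1, 9, 3), (0, 8, 0)],
  [(0, 12, 3), (0, 13, 0), (0, 14, 0), (0, 11, 0), (1, 12, 3), (0, 15, 0), (0, 12, 0)],
  []]

def R : List (List Nat) :=
  [[0, 0],
   [1, 1],
   [2, 2],
   [3, 3],
   [4, 4],
   [0, 1, 0, 1, 0, 1],
   [0, 2, 0, 2],
   [1, 2, 1, 2, 1, 2],
   [2, 3, 2, 3],
   [0, 2, 3, 0, 3],
   [1, 3, 1, 3, 1, 3],
   [3, 4, 3, 4],
   [2, 3, 4, 2, 4],
   [0, 4, 0, 4, 0, 4],
   [1, 4, 1, 4, 1, 4],
   [0, 1, 0, 4, 0, 1, 0, 4, 0, 1, 0, 4]]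

def W : List (List Nat) := [[0],
   [1],
   [2],
   [3]]

noncomputable def P : Par := ⟨T, (nat_lit 4), (nat_lit 15), (nat_lit 98), (nat_lit 14), (nat_lit 16383), (nat_lit 6), (nat_lit 63), (nat_lit 5), (nat_lit 52), (nat_lit 64), (nat_lit 0x18a418820), RT⟩

noncomputable def J0 : List Nat := [
  nat_lit 0x12c40013c40015c40014c40100828418419cc108401010840c0184000010684001030854184815c1068400154808412084001040840154008413028581840cc01,
  nat_lit 0x2086201809284178401010300841604284120850817855501785400128540010841501000854178555c10855c01632840100928418628581,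
  nat_lit 0x84801c1268620184991c15482841041041041041041041041041041041041041041041041041041041041041041041041041041041041041041041041041041041041041]

theorem c0 : chk T (nat_lit 4) (nat_lit 15) (nat_lit 98) (nat_lit 14) (nat_lit 16383) (nat_lit 6) (nat_lit 63) (nat_lit 5) (nat_lit 52) (nat_lit 64) (nat_lit 0x18a418820) (nat_lit 4) (nat_lit 15) RT (nat_lit 16) J0 (nat_lit 16) = true := by
  decide +kernel

theorem r0 : P.RowsOK 16 64 := chk_sound P _ _ _ J0 _ _ (by decide +kernel) c0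

theorem index.{u} : IndexLe.{u} 5 R W 36 :=
  indexLe_of_cert P HT (by decide +kernel)
    (show P.RowsOK 16 64 from r0)

end Tk0

theorem upK : CardLe (genW s [[0], [1], [2], [3], [4]]) 6048 :=
  CardLe.tc (V' := [[0], [1], [2], [3]]) (n := 36) (m := 168) [0, 1, 2, 3, 4] Tk0.index pres.sat (by decide +kernel) (by decide +kernel) (by decide +kernel) upK_1

theorem up : CardLe (gen s 6) 604800 := upK.step (Top.index _ s pres.sat)

end Cfsg.Agent.Comp.J2
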